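import Groth.Agent.L00.RDerLES
import Groth.Agent.L29.K.Sub
import Groth.Agent.L29.K.EulerDb

/-!
# Alternating sums of right derived functors in `K₀`
-/

set_option autoImplicit false
set_option backward.isDefEq.respectTransparency false

universe w v u v' u'

open CategoryTheory CategoryTheory.Limits CategoryTheory.Pretriangulated
open Groth.L17.GrothSS

namespace Groth.L12.KPushCoh

variable {D : Type u'} [Category.{v'} D] [Abelian D] (P : ObjectProperty D) [P.IsClosedUnderIsomorphisms]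

/-- The class of an object is the sum over the kernels of two consecutive maps. -/
theorem cl_eq_ker {X Y Z : D} (f : X ⟶ Y) (g : Y ⟶ Z) (w : f ≫ g = 0) (h : (ShortComplex.mk f g w).Exact)
    (hk : ∀ {A B : D} (φ : A ⟶ B), P A → P B → P (kernel φ)) (hX : P X) (hY : P Y) (hZ : P Z) :
    KZero.clSub P X = KZero.clSub P (kernel f) + KZero.clSub P (kernel g) :=
  letI := HasDerivedCategory.standard D
  Groth.L29.KSub.clSub_shortExact P (Groth.L29.EulerDb.shortExact_ker f g w h) (hk f hX hY) hX (hk g hY hZ)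

theorem alternating_telescope {G : Type*} [AddCommGroup G] (a : ℕ → G) (N : ℕ) :
    ∑ n ∈ Finset.range N, (-1 : ℤ) ^ n • (a n + a (n + 1)) = a 0 - (-1 : ℤ) ^ N • a N := by
  induction N with
  | zero => simp
  | succ N ih =>
    rw [Finset.sum_range_succ, ih, pow_succ, mul_neg_one, neg_smul, smul_add]
    abel

/-- The alternating sum along a long exact sequence starting with a monomorphism and ending in zero. -/
theorem alternating_les (A B C : ℕ → D) (f : ∀ n, A n ⟶ B n) (g : ∀ n, B n ⟶ C n) (δ : ∀ n, C n ⟶ A (n + 1))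
    (w₁ : ∀ n, f n ≫ g n = 0) (w₂ : ∀ n, g n ≫ δ n = 0) (w₃ : ∀ n, δ n ≫ f (n + 1) = 0)
    (e₁ : ∀ n, (ShortComplex.mk _ _ (w₁ n)).Exact) (e₂ : ∀ n, (ShortComplex.mk _ _ (w₂ n)).Exact)
    (e₃ : ∀ n, (ShortComplex.mk _ _ (w₃ n)).Exact) (h0 : Mono (f 0))
    (hk : ∀ {A B : D} (φ : A ⟶ B), P A → P B → P (kernel φ))
    (hA : ∀ n, P (A n)) (hB : ∀ n, P (B n)) (hC : ∀ n, P (C n)) {N : ℕ} (hN : IsZero (A N)) :
    ∑ n ∈ Finset.range N, (-1 : ℤ) ^ n • KZero.clSub P (B n) =
      ∑ n ∈ Finset.range N, (-1 : ℤ) ^ n • KZero.clSub P (A n) +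
        ∑ n ∈ Finset.range N, (-1 : ℤ) ^ n • KZero.clSub P (C n) := by
  let a : ℕ → KZero.K0sub P := fun n => KZero.clSub P (kernel (f n))
  have key : ∀ n, KZero.clSub P (A n) + KZero.clSub P (C n) = KZero.clSub P (B n) + (a n + a (n + 1)) := fun n => by
    rw [cl_eq_ker P _ _ _ (e₁ n) hk (hA n) (hB n) (hC n), cl_eq_ker P _ _ _ (e₂ n) hk (hB n) (hC n) (hA _),
      cl_eq_ker P _ _ _ (e₃ n) hk (hC n) (hA _) (hB _)]
    simp only [a]
    abel
  have hz0 : a 0 = 0 := Groth.L29.KSub.clSub_zero P (isZero_kernel_of_mono (f 0)) (hk _ (hA 0) (hB 0))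
  have hzN : a N = 0 := by
    haveI : Mono (f N) := hN.mono _
    exact Groth.L29.KSub.clSub_zero P (isZero_kernel_of_mono (f N)) (hk _ (hA N) (hB N))
  rw [← Finset.sum_add_distrib]
  simp only [← smul_add, key]
  simp only [smul_add, Finset.sum_add_distrib]
  rw [← Finset.sum_add_distrib (f := fun n => (-1 : ℤ) ^ n • a n)]
  simp only [← smul_add]
  rw [alternating_telescope, hz0, hzN]
  simp

variable {C : Type u} [Category.{v} C] [Abelian C] [HasDerivedCategory.{w} C] [EnoughInjectives C]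
  [HasInjectiveResolutions C] (S : C ⥤ D) [S.Additive]

/-- The alternating sum of the right derived functors of `S` is additive. -/
theorem euler_additive {T : ShortComplex C} (hT : T.ShortExact)
    (hk : ∀ {A B : D} (φ : A ⟶ B), P A → P B → P (kernel φ))
    (h₁ : ∀ n, P ((S.rightDerived n).obj T.X₁)) (h₂ : ∀ n, P ((S.rightDerived n).obj T.X₂))
    (h₃ : ∀ n, P ((S.rightDerived n).obj T.X₃)) {N : ℕ} (hN : IsZero ((S.rightDerived N).obj T.X₁)) :
    ∑ n ∈ Finset.range N, (-1 : ℤ) ^ n • KZero.clSub P ((S.rightDerived n).obj T.X₂) =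
      ∑ n ∈ Finset.range N, (-1 : ℤ) ^ n • KZero.clSub P ((S.rightDerived n).obj T.X₁) +
        ∑ n ∈ Finset.range N, (-1 : ℤ) ^ n • KZero.clSub P ((S.rightDerived n).obj T.X₃) := by
  obtain ⟨δ, hd⟩ := exists_plusTriangle hT
  let F := HomotopyCategory.homologyFunctor D (.up ℤ) 0
  let Tr := (RK S).mapTriangle.obj (Triangle.mk ((DerivedCategory.Plus.singleFunctor C 0).map T.f)
    ((DerivedCategory.Plus.singleFunctor C 0).map T.g) δ)
  have hTr : Tr ∈ distTriang _ := (RK S).map_distinguished _ hd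
  let e : ∀ (M : C) (n : ℕ), (HH S (n : ℤ)).obj ((DerivedCategory.Plus.singleFunctor C 0).obj M) ≅
    (S.rightDerived n).obj M := hhSingleZeroIso S
  have hh₁ : ∀ n : ℕ, P ((HH S (n : ℤ)).obj ((DerivedCategory.Plus.singleFunctor C 0).obj T.X₁)) :=
    fun n => P.prop_of_iso (e T.X₁ n).symm (h₁ n)
  have hh₂ : ∀ n : ℕ, P ((HH S (n : ℤ)).obj ((DerivedCategory.Plus.singleFunctor C 0).obj T.X₂)) :=
    fun n => P.prop_of_iso (e T.X₂ n).symm (h₂ n)
  have hh₃ : ∀ n : ℕ, P ((HH S (n : ℤ)).obj ((DerivedCategory.Plus.singleFunctor C 0).obj T.X₃)) :=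
    fun n => P.prop_of_iso (e T.X₃ n).symm (h₃ n)
  have hcl : ∀ {M : C} (n : ℕ), P ((HH S (n : ℤ)).obj ((DerivedCategory.Plus.singleFunctor C 0).obj M)) →
      KZero.clSub P ((S.rightDerived n).obj M) =
        KZero.clSub P ((HH S (n : ℤ)).obj ((DerivedCategory.Plus.singleFunctor C 0).obj M)) := fun {M} n h =>
    (Groth.L29.KSub.clSub_iso P (e M n) (isZero_kernel_of_mono (𝟙 ((HH S (n : ℤ)).obj _)))
      (hk _ h h) h).symm
  rw [Finset.sum_congr rfl fun n _ => congrArg ((-1 : ℤ) ^ n • ·) (hcl n (hh₂ n)),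
    Finset.sum_congr rfl fun n _ => congrArg ((-1 : ℤ) ^ n • ·) (hcl n (hh₁ n)),
    Finset.sum_congr rfl fun n _ => congrArg ((-1 : ℤ) ^ n • ·) (hcl n (hh₃ n))]
  refine alternating_les P (fun n => (F.shift (n : ℤ)).obj Tr.obj₁) (fun n => (F.shift (n : ℤ)).obj Tr.obj₂)
    (fun n => (F.shift (n : ℤ)).obj Tr.obj₃) (fun n => (F.shift (n : ℤ)).map Tr.mor₁)
    (fun n => (F.shift (n : ℤ)).map Tr.mor₂) (fun n => F.homologySequenceδ Tr (n : ℤ) ((n + 1 : ℕ) : ℤ) (by omega))
    (fun n => F.homologySequence_comp Tr hTr _) (fun n => F.comp_homologySequenceδ Tr hTr _ _ _)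
    (fun n => F.homologySequenceδ_comp Tr hTr _ _ _) (fun n => F.homologySequence_exact₂ Tr hTr _)
    (fun n => F.homologySequence_exact₃ Tr hTr _ _ _) (fun n => F.homologySequence_exact₁ Tr hTr _ _ _)
    ?_ hk hh₁ hh₂ hh₃ (hN.of_iso (e T.X₁ N))
  have h := Groth.L00.RDerLES.mono_zero S hT
  have he : (HH S ((0 : ℕ) : ℤ)).map ((DerivedCategory.Plus.singleFunctor C 0).map T.f) =
      (e T.X₁ 0).hom ≫ (S.rightDerived 0).map T.f ≫ (e T.X₂ 0).inv := by
    rw [← Category.assoc, ← Groth.L00.RDerLES.hhSingleZeroIso_naturality S T.f 0, Category.assoc, Iso.hom_inv_id,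
      Category.comp_id]
  show Mono ((HH S ((0 : ℕ) : ℤ)).map ((DerivedCategory.Plus.singleFunctor C 0).map T.f))
  rw [he]
  infer_instance

end Groth.L12.KPushCoh
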