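import Groth.Agent.L12.KPushCoh.Euler
import Groth.Agent.L17.ProperCoh
import Groth.Agent.L29.DCoh.RpushQC
import Groth.Agent.L03.BlowAcyc.ExcPart
import Groth.Agent.L03.BlowAcyc.Conormal
import Groth.Agent.L03.RegularNormal
import Groth.Agent.L12.RR.Def.Localise

/-!
# The push-forward on `K₀` of coherent modules, and a left inverse to the pullback along a blow-up
-/

set_option autoImplicit false
set_option linter.style.haveILetI false
set_option backward.isDefEq.respectTransparency false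

universe u

open CategoryTheory CategoryTheory.Limits AlgebraicGeometry

attribute [local instance] HasDerivedCategory.standard

noncomputable section

namespace Groth.L12.KPushCoh

open Groth.L12.Kvb (KR)
open Groth.L12.KBunQ (kc)

variable {X Y : Scheme.{u}}

/-- A proper morphism to a Noetherian scheme has a push-forward on `K₀` of coherent modules. -/
theorem exists_pushCoh [IsNoetherian Y] (f : X ⟶ Y) [IsProper f] [HasInjectiveResolutions X.Modules] :
    ∃ (N : ℕ) (g : SGA6.Kcoh X →+ SGA6.Kcoh Y), _root_.KRR.IsPushCoh f N g := by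
  haveI : IsLocallyNoetherian X := LocallyOfFiniteType.isLocallyNoetherian f
  haveI : EnoughInjectives X.Modules := (Groth.L10.ModRDer.insts X.sheaf).1
  haveI : ObjectProperty.IsClosedUnderIsomorphisms (fun M : Y.Modules => Coh.IsCoh M) :=
    ⟨fun e h => Groth.L16.CohSupport.isCoh_of_iso e h⟩
  haveI := Groth.L17.PushQCoh.additive_push f
  obtain ⟨N, hN⟩ := Groth.L29.DC.RpushQC.exists_bound f
  let χ : X.Modules → SGA6.Kcoh Y := fun M => ∑ i ∈ Finset.range (N + 1),
    (-1 : ℤ) ^ i • KZero.clSub (fun M : Y.Modules => Coh.IsCoh M) ((Coh.Rpush f i).obj M)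
  refine ⟨N, Groth.L29.KSub.lift (P := fun M : X.Modules => Coh.IsCoh M) χ fun T hT h₁ h₂ h₃ => ?_,
    fun F hF i hi => hN F hF.1 i hi.le, fun F hF => Groth.L29.KSub.lift_clSub (P := fun M : X.Modules => Coh.IsCoh M) χ _ hF⟩
  exact euler_additive (fun M : Y.Modules => Coh.IsCoh M) (Scheme.Modules.pushforward f) hT
    (fun φ hA hB => (Groth.L16.CohKernel.isCoh_kernel_cokernel hA hB φ).1)
    (fun n => Groth.L17.ProperCoh.isCoh_Rpush f _ h₁ n) (fun n => Groth.L17.ProperCoh.isCoh_Rpush f _ h₂ n)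
    (fun n => Groth.L17.ProperCoh.isCoh_Rpush f _ h₃ n) (hN _ h₁.1 (N + 1) (Nat.le_succ N))

/-- For a blow-up of a regular scheme in a regularly immersed centre, the pullback has a left inverse
on `K₀` of coherent modules. -/
theorem exists_leftInverse [IsNoetherian Y] (hYreg : ∀ y : Y, IsRegularLocalRing (Y.presheaf.stalk y))
    {Z : Scheme.{u}} (f : Z ⟶ Y) (hf : Mor2.IsRegularClosedImmersion f) {d : ℕ} (hd : 1 ≤ d)
    (hC : FlatMod.IsFinLocFreeOfRank d (Omega.conormal f)) (φ : X ⟶ Y) (hφ : BlowUp.IsBlowUp φ f.ker)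
    [IsNoetherian X] :
    ∃ g : SGA6.Kcoh X →+ SGA6.Kcoh Y, ∀ y : KR Y, g (RR.Loc.dlt X (RR.pull φ y)) = RR.Loc.dlt Y y := by
  haveI := Groth.L03.BlowAcyc.isProper hφ
  haveI := Groth.L17.PushQCoh.hasInjectiveResolutions X
  haveI := Groth.L17.PushQCoh.additive_push φ
  have hY : Pi1.IsNormalScheme Y := fun y => by
    haveI := hYreg y
    haveI := Groth.L01.isDomain_of_regular (Y.presheaf.stalk y)
    exact ⟨inferInstance, Groth.L03.RegularNormal.isIntegrallyClosed _⟩
  obtain ⟨hI, hden⟩ := Groth.L03.BlowAcyc.locQR_of_conormal f hf d hd hC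
  haveI : ObjectProperty.IsClosedUnderIsomorphisms (fun M : Y.Modules => Coh.IsCoh M) :=
    ⟨fun e h => Groth.L16.CohSupport.isCoh_of_iso e h⟩
  obtain ⟨N, g, hg⟩ := exists_pushCoh φ
  refine ⟨g, fun y => ?_⟩
  refine DFunLike.congr_fun (Groth.L12.KBunQ.KR_hom_ext (φ := g.comp ((RR.Loc.dlt X).comp (RR.pull φ).toAddMonoidHom))
    (ψ := RR.Loc.dlt Y) fun E hE => ?_) y
  have hE' := Groth.L29.LocFree.pullback φ hE
  show g (RR.Loc.dlt X (RR.pull φ (kc Y E))) = RR.Loc.dlt Y (kc Y E)
  rw [RR.pull_kc φ hE, RR.Loc.dlt_kc hE', RR.Loc.dlt_kc hE, hg.2 _ (Groth.L16.NegPow.isCoh_of_isFinLocFree hE'),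
    Finset.sum_eq_single 0]
  · obtain ⟨e0⟩ := Groth.L17.BC.Classes.nonempty_Rpush_zero_iso φ ((Scheme.Modules.pullback φ).obj E)
    haveI := Groth.L03.BlowAcyc.isIso_unit hφ hY hden hE
    rw [pow_zero, one_smul]
    exact (Groth.L29.KSub.clSub_iso _
      (asIso ((Scheme.Modules.pullbackPushforwardAdjunction φ).unit.app E) ≪≫ e0.symm)
      (isZero_zero _) (Groth.L16.Devissage.isCoh_of_isZero (isZero_zero _))
      (Groth.L16.NegPow.isCoh_of_isFinLocFree hE)).symm
  · intro q _ hq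
    have hz : IsZero ((Coh.Rpush φ q).obj ((Scheme.Modules.pullback φ).obj E)) := by
      obtain ⟨e⟩ := Groth.L17.nonempty_toAb_Rpush_iso φ ((Scheme.Modules.pullback φ).obj E) q
      exact Groth.L17.PushQCoh.isZero_of_toAb
        ((Groth.L03.BlowAcyc.isZero_RpushAb_pullback hφ hI hE q (Nat.pos_of_ne_zero hq)).of_iso e)
    rw [Groth.L29.KSub.clSub_zero _ hz (Groth.L16.Devissage.isCoh_of_isZero hz), smul_zero]
  · exact fun h => (h (Finset.mem_range.2 (Nat.succ_pos N))).elim

end Groth.L12.KPushCoh
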